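import Cfsg.Agent.H407.TI.Over
import Cfsg.Agent.PermutationGroups.Subdegree

/-!
# Values at elements of order 14, 11 and the congruence modulo 4 (helper243, task 5926, [3MCL-G])
-/

set_option autoImplicit false
set_option linter.unusedSectionVars false

namespace Cfsg.Agent.H243.TI

open Cfsg Cfsg.Agent.Characters.Core Cfsg.Agent.H407.TI
open scoped ComplexConjugate

universe u

/-- a primitive eleventh root of unity -/
theorem exists_eleven : ∃ ζ : ℂ, ζ ^ 11 = 1 ∧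
    1 + ζ + ζ ^ 2 + ζ ^ 3 + ζ ^ 4 + ζ ^ 5 + ζ ^ 6 + ζ ^ 7 + ζ ^ 8 + ζ ^ 9 + ζ ^ 10 = 0 := by
  have h := Complex.isPrimitiveRoot_exp 11 (by norm_num)
  set ζ : ℂ := Complex.exp (2 * Real.pi * Complex.I / (11 : ℕ)) with hζ
  have h1 : ζ ^ 11 = 1 := h.pow_eq_one
  have h2 := h.geom_sum_eq_zero (by norm_num)
  simp only [Finset.sum_range_succ, Finset.sum_range_zero, pow_zero, pow_one, zero_add] at h2
  exact ⟨ζ, h1, h2⟩

/-- the roots of `X ^ 2 + X + c` -/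
theorem root_cases {ε e f c : ℂ} (hε : ε * ε = -ε - c) (h1 : e + f = -1) (h2 : e * f = c) : ε = e ∨ ε = f := by
  have h3 : (ε - e) * (ε - f) = 0 := by linear_combination hε - ε * h1 + h2
  rcases mul_eq_zero.1 h3 with h | h
  · exact Or.inl (sub_eq_zero.1 h)
  · exact Or.inr (sub_eq_zero.1 h)

section

variable {E : Type u} [Group E]

/-- the values at `t y` as differences of multiplicities -/
theorem odd_mult {χ : E → ℂ} (hχ : IsCharacter E χ) {t y : E} (ht : t * t = 1) (hy : y ^ 7 = 1) (hty : t * y = y * t)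
    {w : ℂ} (hw : w ^ 7 = 1) : ∃ n : ℤ, χ t + χ (t * y) * w + χ (t * y ^ 2) * w ^ 2 + χ (t * y ^ 3) * w ^ 3 +
      χ (t * y ^ 4) * w ^ 4 + χ (t * y ^ 5) * w ^ 5 + χ (t * y ^ 6) * w ^ 6 = 7 * n := by
  have hc : Commute t y := hty
  have ht2 : t ^ 2 = 1 := by rw [pow_two, ht]
  have hg : (t * y) ^ 14 = 1 := by
    rw [hc.mul_pow, show (14 : ℕ) = 2 * 7 from rfl, pow_mul, ht2, one_pow, mul_comm 2 7, pow_mul, hy, one_pow, mul_one]
  obtain ⟨a, ha⟩ := exists_mult hχ (by norm_num) hg (w := w) (by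
    rw [show (14 : ℕ) = 7 * 2 from rfl, pow_mul, hw, one_pow])
  obtain ⟨b, hb⟩ := exists_mult hχ (by norm_num) hg (w := -w) (by
    rw [show (14 : ℕ) = 2 * 7 from rfl, pow_mul, neg_sq, ← pow_mul, mul_comm, pow_mul, hw, one_pow])
  simp only [Finset.sum_range_succ, Finset.sum_range_zero, pow_zero, pow_one, zero_add, mul_one] at ha hb
  have p3 : (t * y) ^ 3 = t * y ^ 3 := by
    rw [hc.mul_pow, show t ^ 3 = t by rw [pow_succ, ht2, one_mul]]
  have p5 : (t * y) ^ 5 = t * y ^ 5 := by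
    rw [hc.mul_pow, show t ^ 5 = t by rw [show (5 : ℕ) = 2 * 2 + 1 from rfl, pow_succ, pow_mul, ht2, one_pow, one_mul]]
  have p7 : (t * y) ^ 7 = t := by
    rw [hc.mul_pow, hy, show t ^ 7 = t by rw [show (7 : ℕ) = 2 * 3 + 1 from rfl, pow_succ, pow_mul, ht2, one_pow,
      one_mul], mul_one]
  have p9 : (t * y) ^ 9 = t * y ^ 2 := by
    rw [hc.mul_pow, show t ^ 9 = t by rw [show (9 : ℕ) = 2 * 4 + 1 from rfl, pow_succ, pow_mul, ht2, one_pow,
      one_mul], show (9 : ℕ) = 7 + 2 from rfl, pow_add y, hy, one_mul]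
  have p11 : (t * y) ^ 11 = t * y ^ 4 := by
    rw [hc.mul_pow, show t ^ 11 = t by rw [show (11 : ℕ) = 2 * 5 + 1 from rfl, pow_succ, pow_mul, ht2, one_pow,
      one_mul], show (11 : ℕ) = 7 + 4 from rfl, pow_add y, hy, one_mul]
  have p13 : (t * y) ^ 13 = t * y ^ 6 := by
    rw [hc.mul_pow, show t ^ 13 = t by rw [show (13 : ℕ) = 2 * 6 + 1 from rfl, pow_succ, pow_mul, ht2, one_pow,
      one_mul], show (13 : ℕ) = 7 + 6 from rfl, pow_add y, hy, one_mul]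
  rw [p3, p5, p7, p9, p11, p13] at ha hb
  refine ⟨(a : ℤ) - b, ?_⟩
  push_cast at ha hb ⊢
  have w9 : w ^ 9 = w ^ 2 := by rw [show (9 : ℕ) = 7 + 2 from rfl, pow_add, hw, one_mul]
  have w11 : w ^ 11 = w ^ 4 := by rw [show (11 : ℕ) = 7 + 4 from rfl, pow_add, hw, one_mul]
  have w13 : w ^ 13 = w ^ 6 := by rw [show (13 : ℕ) = 7 + 6 from rfl, pow_add, hw, one_mul]
  have n2 : (-w) ^ 2 = w ^ 2 := by ring
  have n3 : (-w) ^ 3 = -w ^ 3 := by ring
  have n4 : (-w) ^ 4 = w ^ 4 := by ring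
  have n5 : (-w) ^ 5 = -w ^ 5 := by ring
  have n6 : (-w) ^ 6 = w ^ 6 := by ring
  have n7 : (-w) ^ 7 = -1 := by rw [show (-w) ^ 7 = -w ^ 7 by ring, hw]
  have n8 : (-w) ^ 8 = w ^ 8 := by ring
  have n9 : (-w) ^ 9 = -w ^ 2 := by rw [show (-w) ^ 9 = -w ^ 9 by ring, w9]
  have n10 : (-w) ^ 10 = w ^ 10 := by ring
  have n11 : (-w) ^ 11 = -w ^ 4 := by rw [show (-w) ^ 11 = -w ^ 11 by ring, w11]
  have n12 : (-w) ^ 12 = w ^ 12 := by ring
  have n13 : (-w) ^ 13 = -w ^ 6 := by rw [show (-w) ^ 13 = -w ^ 13 by ring, w13]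
  rw [n2, n3, n4, n5, n6, n7, n8, n9, n10, n11, n12, n13] at hb
  rw [hw, w9, w11, w13] at ha
  linear_combination (ha - hb) / 2

end

section

variable {E : Type u} [Group E] [Finite E]

omit [Finite E] in
theorem apply_eq {χ : E → ℂ} (hχ : IsCharacter E χ) {g h x : E} (h1 : x * g * x⁻¹ = h) : χ h = χ g := by
  rw [← h1]
  exact isCharacter_isClassFunction hχ g x

/-- **values at the elements of order 14** -/
theorem seven {ε : ℂ} (hε : ε * ε = -ε - 2) {χ : E → ℂ} (hχ : IsCharacter E χ) {t y m : E} (ht : t * t = 1)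
    (hy : y ^ 7 = 1) (hty : t * y = y * t) (hm : m * y * m⁻¹ = y ^ 2) (hmt : m * t = t * m) {a : ℤ} (ha : χ t = a) :
    ∃ g k : ℤ, χ (t * y) = g + k * ε ∧ (7 : ℤ) ∣ a - g - 3 * k := by
  obtain ⟨ζ, h7, hs, -⟩ := exists_seven
  have hmt' : m * t * m⁻¹ = t := by rw [hmt, mul_inv_cancel_right]
  have key : ∀ k : ℕ, m * (t * y ^ k) * m⁻¹ = t * y ^ (2 * k) := by
    intro k
    calc m * (t * y ^ k) * m⁻¹ = (m * t * m⁻¹) * (m * y ^ k * m⁻¹) := by group
      _ = t * (m * y * m⁻¹) ^ k := by rw [hmt', conj_pow]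
      _ = t * y ^ (2 * k) := by rw [hm, ← pow_mul]
  have e2 : χ (t * y ^ 2) = χ (t * y) := by
    have := apply_eq hχ (key 1)
    rwa [pow_one] at this
  have e4 : χ (t * y ^ 4) = χ (t * y) := by rw [← e2]; exact apply_eq hχ (key 2)
  have e6 : χ (t * y ^ 6) = χ (t * y ^ 3) := apply_eq hχ (key 3)
  have e5 : χ (t * y ^ 5) = χ (t * y ^ 3) := by
    have h1 := apply_eq hχ (key 6)
    rw [show 2 * 6 = 7 + 5 from rfl, pow_add, hy, one_mul, e6] at h1
    exact h1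
  obtain ⟨a0, h0⟩ := odd_mult hχ ht hy hty (w := 1) (one_pow 7)
  obtain ⟨a2, h2⟩ := odd_mult hχ ht hy hty (w := ζ) h7
  obtain ⟨a1, h1⟩ := odd_mult hχ ht hy hty (w := ζ ^ 3) (by rw [← pow_mul, mul_comm, pow_mul, h7, one_pow])
  rw [e2, e4, e5, e6, ha] at h0 h1 h2
  have r1 : (ζ + ζ ^ 2 + ζ ^ 4) + (ζ ^ 3 + ζ ^ 5 + ζ ^ 6) = -1 := by linear_combination hs
  have r2 : (ζ + ζ ^ 2 + ζ ^ 4) * (ζ ^ 3 + ζ ^ 5 + ζ ^ 6) = 2 := by
    linear_combination (ζ + ζ ^ 2 + ζ ^ 3 + 3) * h7 + hs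
  generalize χ (t * y) = α at *
  generalize χ (t * y ^ 3) = β at *
  have g0 : (a : ℂ) + 3 * α + 3 * β = 7 * a0 := by linear_combination h0
  have g2 : (a : ℂ) + α * (ζ + ζ ^ 2 + ζ ^ 4) + β * (ζ ^ 3 + ζ ^ 5 + ζ ^ 6) = 7 * a2 := by linear_combination h2
  have g1 : (a : ℂ) + α * (ζ ^ 3 + ζ ^ 5 + ζ ^ 6) + β * (ζ + ζ ^ 2 + ζ ^ 4) = 7 * a1 := by
    linear_combination h1 - (β * ζ ^ 2 + α * ζ ^ 5 + β * ζ * (ζ ^ 7 + 1) + β * ζ ^ 4 * (ζ ^ 7 + 1)) * h7
  have hr := root_cases hε r1 r2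
  generalize ζ + ζ ^ 2 + ζ ^ 4 = e at *
  generalize ζ ^ 3 + ζ ^ 5 + ζ ^ 6 = f at *
  have r3 : e * e = -e - 2 := by linear_combination e * r1 - r2
  have hα : α = ((a0 - a2 : ℤ) : ℂ) + ((a1 - a2 : ℤ) : ℂ) * e := by
    push_cast
    linear_combination (g0 - g2 + (g1 - g2) * e + (2 * α - β) * r1 + (α - β) * (r3 - r2 - 2 * r1)) / 7
  have hd : (a : ℤ) = a0 + 3 * a1 + 3 * a2 := by
    have h6 : (a : ℂ) = ((a0 + 3 * a1 + 3 * a2 : ℤ) : ℂ) := by
      push_cast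
      linear_combination (g0 + 3 * g1 + 3 * g2 - 3 * (α + β) * r1) / 7
    exact_mod_cast h6
  rcases hr with h | h
  · refine ⟨a0 - a2, a1 - a2, by rw [h]; exact hα, a2, by rw [hd]; ring⟩
  · refine ⟨(a0 - a2) - (a1 - a2), -(a1 - a2), ?_, a1, by rw [hd]; ring⟩
    rw [h, hα]
    push_cast
    linear_combination (a1 - a2 : ℂ) * r1

/-- **values at the elements of order 11** -/
theorem eleven {δ : ℂ} (hδ : δ * δ = -δ - 3) {χ : E → ℂ} (hχ : IsCharacter E χ) {v : E} (hv : v ^ 11 = 1)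
    (hc : IsConj v (v ^ 3)) {d : ℤ} (hd : χ 1 = d) :
    ∃ i j : ℤ, χ v = i + j * δ ∧ (11 : ℤ) ∣ d - i - 5 * j := by
  obtain ⟨ζ, h11, hs⟩ := exists_eleven
  obtain ⟨x, hx⟩ := isConj_iff.1 hc
  have key : ∀ k : ℕ, x * v ^ k * x⁻¹ = v ^ (3 * k) := by
    intro k
    rw [← conj_pow, hx, ← pow_mul]
  have red : ∀ k : ℕ, v ^ (11 + k) = v ^ k := fun k => by rw [pow_add, hv, one_mul]
  have e3 : χ (v ^ 3) = χ v := by
    have := apply_eq hχ (key 1)
    rwa [mul_one, pow_one] at this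
  have e9 : χ (v ^ 9) = χ v := by rw [← e3]; exact apply_eq hχ (key 3)
  have e5 : χ (v ^ 5) = χ v := by
    have h1 := apply_eq hχ (key 9)
    rwa [show 3 * 9 = 11 + (11 + 5) from rfl, red, red, e9] at h1
  have e4 : χ (v ^ 4) = χ v := by
    have h1 := apply_eq hχ (key 5)
    rwa [show 3 * 5 = 11 + 4 from rfl, red, e5] at h1
  have e6 : χ (v ^ 6) = χ (v ^ 2) := apply_eq hχ (key 2)
  have e7 : χ (v ^ 7) = χ (v ^ 2) := by
    have h1 := apply_eq hχ (key 6)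
    rwa [show 3 * 6 = 11 + 7 from rfl, red, e6] at h1
  have e10 : χ (v ^ 10) = χ (v ^ 2) := by
    have h1 := apply_eq hχ (key 7)
    rwa [show 3 * 7 = 11 + 10 from rfl, red, e7] at h1
  have e8 : χ (v ^ 8) = χ (v ^ 2) := by
    have h1 := apply_eq hχ (key 10)
    rwa [show 3 * 10 = 11 + (11 + 8) from rfl, red, red, e10] at h1
  obtain ⟨a0, h0⟩ := exists_mult hχ (by norm_num) hv (w := 1) (one_pow 11)
  obtain ⟨a2, h2⟩ := exists_mult hχ (by norm_num) hv (w := ζ) h11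
  obtain ⟨a1, h1⟩ := exists_mult hχ (by norm_num) hv (w := ζ ^ 2) (by rw [← pow_mul, mul_comm, pow_mul, h11, one_pow])
  simp only [Finset.sum_range_succ, Finset.sum_range_zero, pow_zero, pow_one, zero_add, mul_one, one_pow, hd, e3, e4,
    e5, e6, e7, e8, e9, e10] at h0 h1 h2
  push_cast at h0 h1 h2
  have z : ∀ k, ζ ^ (11 + k) = ζ ^ k := fun k => by rw [pow_add, h11, one_mul]
  simp only [← pow_mul] at h1
  norm_num at h1
  have z12 : ζ ^ 12 = ζ := by have := z 1; rwa [pow_one] at this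
  have z14 : ζ ^ 14 = ζ ^ 3 := z 3
  have z16 : ζ ^ 16 = ζ ^ 5 := z 5
  have z18 : ζ ^ 18 = ζ ^ 7 := z 7
  have z20 : ζ ^ 20 = ζ ^ 9 := z 9
  rw [z12, z14, z16, z18, z20] at h1
  have r1 : (ζ + ζ ^ 3 + ζ ^ 4 + ζ ^ 5 + ζ ^ 9) + (ζ ^ 2 + ζ ^ 6 + ζ ^ 7 + ζ ^ 8 + ζ ^ 10) = -1 := by
    linear_combination hs
  have r2 : (ζ + ζ ^ 3 + ζ ^ 4 + ζ ^ 5 + ζ ^ 9) * (ζ ^ 2 + ζ ^ 6 + ζ ^ 7 + ζ ^ 8 + ζ ^ 10) = 3 := by
    have z13 : ζ ^ 13 = ζ ^ 2 := z 2
    have z15 : ζ ^ 15 = ζ ^ 4 := z 4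
    have z17 : ζ ^ 17 = ζ ^ 6 := z 6
    have z19 : ζ ^ 19 = ζ ^ 8 := z 8
    ring_nf
    simp only [h11, z12, z13, z14, z15, z16, z17, z19]
    linear_combination 2 * hs
  generalize χ v = α at *
  generalize χ (v ^ 2) = β at *
  have g0 : (d : ℂ) + 5 * α + 5 * β = 11 * a0 := by linear_combination h0
  have g2 : (d : ℂ) + α * (ζ + ζ ^ 3 + ζ ^ 4 + ζ ^ 5 + ζ ^ 9) + β * (ζ ^ 2 + ζ ^ 6 + ζ ^ 7 + ζ ^ 8 + ζ ^ 10) =
      11 * a2 := by linear_combination h2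
  have g1 : (d : ℂ) + α * (ζ ^ 2 + ζ ^ 6 + ζ ^ 7 + ζ ^ 8 + ζ ^ 10) + β * (ζ + ζ ^ 3 + ζ ^ 4 + ζ ^ 5 + ζ ^ 9) =
      11 * a1 := by linear_combination h1
  have hr := root_cases hδ r1 r2
  generalize ζ + ζ ^ 3 + ζ ^ 4 + ζ ^ 5 + ζ ^ 9 = e at *
  generalize ζ ^ 2 + ζ ^ 6 + ζ ^ 7 + ζ ^ 8 + ζ ^ 10 = f at *
  have r3 : e * e = -e - 3 := by linear_combination e * r1 - r2
  have hα : α = (((a0 : ℤ) - a2 : ℤ) : ℂ) + (((a1 : ℤ) - a2 : ℤ) : ℂ) * e := by
    push_cast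
    linear_combination (g0 - g2 + (g1 - g2) * e + (2 * α - β) * r1 + (α - β) * (r3 - r2 - 2 * r1)) / 11
  have hd' : (d : ℤ) = a0 + 5 * a1 + 5 * a2 := by
    have h6 : (d : ℂ) = ((a0 + 5 * a1 + 5 * a2 : ℤ) : ℂ) := by
      push_cast
      linear_combination (g0 + 5 * g1 + 5 * g2 - 5 * (α + β) * r1) / 11
    exact_mod_cast h6
  rcases hr with h | h
  · refine ⟨(a0 : ℤ) - a2, (a1 : ℤ) - a2, by rw [h]; exact hα, a2, by rw [hd']; ring⟩
  · refine ⟨((a0 : ℤ) - a2) - ((a1 : ℤ) - a2), -((a1 : ℤ) - a2), ?_, a1, by rw [hd']; ring⟩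
    rw [h, hα]
    push_cast
    linear_combination (a1 - a2 : ℂ) * r1

/-- the trace of an endomorphism `f` with `f ^ (n + 1) = f` is an algebraic integer -/
theorem isIntegral_trace {V : Type*} [AddCommGroup V] [Module ℂ V] [FiniteDimensional ℂ V] (f : Module.End ℂ V)
    {n : ℕ} (hn : n ≠ 0) (hf : f ^ (n + 1) = f) : IsIntegral ℤ (LinearMap.trace ℂ V f) := by
  rw [Module.End.trace_eq_sum_roots_charpoly_of_splits (IsAlgClosed.splits f.charpoly)]
  refine IsIntegral.multiset_sum ?_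
  intro μ hμ
  have h1 : f.HasEigenvalue μ := Module.End.hasEigenvalue_iff_isRoot_charpoly f μ |>.2
    ((Polynomial.mem_roots (LinearMap.charpoly_monic f).ne_zero).1 hμ)
  obtain ⟨v, hv⟩ := h1.exists_hasEigenvector
  have h2 : μ ^ (n + 1) = μ := by
    have h3 := hv.pow_apply (n + 1)
    rw [hf, hv.apply_eq_smul] at h3
    have h4 : (μ - μ ^ (n + 1)) • v = 0 := by rw [sub_smul, ← h3, sub_self]
    rcases smul_eq_zero.1 h4 with h | h
    · exact (sub_eq_zero.1 h).symm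
    · exact absurd h hv.2
  by_cases h0 : μ = 0
  · rw [h0]
    exact isIntegral_zero
  · have h5 : μ ^ n = 1 := by
      rw [pow_succ] at h2
      exact mul_right_cancel₀ h0 (h2.trans (one_mul μ).symm)
    exact IsIntegral.of_pow (Nat.pos_of_ne_zero hn) (by rw [h5]; exact isIntegral_one)

/-- the value at `x` of the character on the `-i`-eigenspace of `q` -/
theorem isIntegral_four {χ : E → ℂ} (hχ : IsCharacter E χ) {x q : E} (hq : q * q * (q * q) = 1) (hqx : q * x = x * q) :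
    IsIntegral ℤ ((χ x + Complex.I * χ (q * x) - χ (q * q * x) - Complex.I * χ (q * q * q * x)) / 4) := by
  obtain ⟨m, ρ, rfl⟩ := hχ
  set Q : Module.End ℂ (Fin m → ℂ) := ρ q with hQ
  set X : Module.End ℂ (Fin m → ℂ) := ρ x with hX
  have hQ4 : Q * Q * (Q * Q) = 1 := by rw [hQ, ← map_mul, ← map_mul, hq, map_one]
  have hQX : Q * X = X * Q := by rw [hQ, hX, ← map_mul, hqx, map_mul]
  obtain ⟨P, hP⟩ : ∃ P : Module.End ℂ (Fin m → ℂ),
      P = (4⁻¹ : ℂ) • (1 + Complex.I • Q - Q * Q - Complex.I • (Q * Q * Q)) := ⟨_, rfl⟩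
  have hI : Complex.I * Complex.I = -1 := Complex.I_mul_I
  have hPQ : P * Q = (-Complex.I) • P := by
    rw [hP, smul_mul_assoc, sub_mul, sub_mul, add_mul, one_mul, smul_mul_assoc, smul_mul_assoc, mul_assoc (Q * Q),
      hQ4, smul_smul, mul_comm (-Complex.I), ← smul_smul]
    congr 1
    rw [smul_sub, smul_sub, smul_add, smul_smul, smul_smul, neg_mul, hI, neg_neg, one_smul, one_smul, neg_smul,
      neg_smul]
    abel
  have hPP : P * P = P := by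
    have h1 : P * (Q * Q) = (-1 : ℂ) • P := by
      rw [← mul_assoc, hPQ, smul_mul_assoc, hPQ, smul_smul, neg_mul_neg, hI]
    have h2 : P * (Q * Q * Q) = Complex.I • P := by
      rw [← mul_assoc, h1, smul_mul_assoc, hPQ, smul_smul, neg_mul_neg, one_mul]
    have h3 : P * P = (4⁻¹ : ℂ) • (P + Complex.I • (P * Q) - P * (Q * Q) - Complex.I • (P * (Q * Q * Q))) := by
      conv_lhs => rhs; rw [hP]
      rw [mul_smul_comm, mul_sub, mul_sub, mul_add, mul_one, mul_smul_comm, mul_smul_comm]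
    have h5 : ∀ R : Module.End ℂ (Fin m → ℂ),
        (4⁻¹ : ℂ) • (R + (- -1 : ℂ) • R - (-1 : ℂ) • R - (-1 : ℂ) • R) = R := fun R => by module
    rw [h3, hPQ, h1, h2, smul_smul, smul_smul, mul_neg, hI]
    exact h5 P
  have hPX : Commute P X := by
    have h1 : Commute Q X := hQX
    rw [hP]
    exact (((((Commute.one_left X).add_left (h1.smul_left _)).sub_left (h1.mul_left h1)).sub_left
      (((h1.mul_left h1).mul_left h1).smul_left _))).smul_left _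
  have hn : Nat.card E ≠ 0 := Nat.card_pos.ne'
  have hXn : X ^ Nat.card E = 1 := by rw [hX, ← map_pow, pow_card_eq_one', map_one]
  have hpow : ∀ k : ℕ, (P * X) ^ (k + 1) = P * X ^ (k + 1) := by
    intro k
    rw [hPX.mul_pow]
    congr 1
    induction k with
    | zero => rw [zero_add, pow_one]
    | succ k ih => rw [pow_succ, ih, hPP]
  have hf : (P * X) ^ (Nat.card E + 1) = P * X := by rw [hpow, pow_succ, hXn, one_mul]
  have key := isIntegral_trace (P * X) hn hf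
  have htr : LinearMap.trace ℂ (Fin m → ℂ) (P * X) = (ρ.character x + Complex.I * ρ.character (q * x) -
      ρ.character (q * q * x) - Complex.I * ρ.character (q * q * q * x)) / 4 := by
    rw [hP, smul_mul_assoc, sub_mul, sub_mul, add_mul, one_mul, smul_mul_assoc, smul_mul_assoc, map_smul, map_sub,
      map_sub, map_add, map_smul, map_smul]
    simp only [Representation.character, map_mul, smul_eq_mul]
    rw [← hQ, ← hX]
    ring
  rw [← htr]
  exact key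

/-- **the congruence modulo 4** -/
theorem four {χ : E → ℂ} (hχ : IsCharacter E χ) {x q r : E} (hq : q * q * (q * q) = 1) (hqx : q * x = x * q)
    (hrx : r * x = x * r) (hrq : r * q * r⁻¹ = q⁻¹) {a3 a6 : ℤ} (h3 : χ x = a3) (h6 : χ (q * q * x) = a6) :
    (4 : ℤ) ∣ a6 - a3 := by
  have h1 := isIntegral_four hχ hq hqx
  have h2 : χ (q * q * q * x) = χ (q * x) := by
    have h4 : q⁻¹ = q * q * q := by
      rw [inv_eq_iff_mul_eq_one, ← hq]
      group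
    refine apply_eq hχ (x := r) ?_
    calc r * (q * x) * r⁻¹ = (r * q * r⁻¹) * (r * x * r⁻¹) := by group
      _ = q * q * q * x := by rw [hrq, hrx, mul_inv_cancel_right, h4]
  rw [h2, h3, h6] at h1
  have h5 : (((a6 - a3 : ℤ)) : ℂ) = ((4 : ℕ) : ℂ) *
      -(((a3 : ℂ) + Complex.I * χ (q * x) - a6 - Complex.I * χ (q * x)) / 4) := by
    push_cast
    ring
  exact PermutationGroups.Subdegree.dvd_of_isIntegral h5 h1.neg

end

end Cfsg.Agent.H243.TI
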